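import Groth.Agent.Lib.BaseChange.Irred
import Groth.Prelude.Def_Red
import Mathlib.AlgebraicGeometry.Geometrically.Connected

/-!
Connected geometric fibres give geometric connectedness.
-/

universe u

open CategoryTheory CategoryTheory.Limits AlgebraicGeometry

namespace GrothLib.DescentHom

theorem geometricallyConnected_of_geomPt {S S' : Scheme.{u}} (π : S' ⟶ S)
    (hconn : ∀ s : S, ConnectedSpace ↥(pullback π (Red.geomPt s))) : GeometricallyConnected π := by
  rw [GeometricallyConnected.iff_geometricallyConnected_fiber]
  intro s
  let _ : (π.fiber s).Over (Spec (CommRingCat.of (S.residueField s))) := ⟨π.fiberToSpecResidueField s⟩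
  have : ConnectedSpace ↥(Curv2.bc (S.residueField s) (π.fiber s) (AlgebraicClosure (S.residueField s))) := by
    have := hconn s
    exact (pullbackLeftPullbackSndIso π (S.fromSpecResidueField s) _).inv.homeomorph.surjective.connectedSpace
      (pullbackLeftPullbackSndIso π (S.fromSpecResidueField s) _).inv.continuous
  exact GrothLib.BaseChange.geometricallyConnected_of_connected_bc (S.residueField s) (π.fiber s)
    (AlgebraicClosure (S.residueField s))

end GrothLib.DescentHom
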