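import Groth.Agent.Lib.DiagGrp.SubgroupEq
import Mathlib.AlgebraicGeometry.Sites.Fpqc

/-!
Descent of homomorphisms of group schemes along fpqc coverings.
-/

universe u

open CategoryTheory MonoidalCategory CartesianMonoidalCategory MonObj GrpObj AlgebraicGeometry
open CategoryTheory.Limits
open GrothLib.DiagGrp

namespace GrothLib.DescentHom

variable {S S' : Scheme.{u}}

/-- Base changes of an fpqc covering morphism are effective epimorphisms. -/
theorem effectiveEpi_of_cover (π : S' ⟶ S) [Flat π] [Surjective π]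
    (hcov : ∀ V : S.Opens, IsAffineOpen V → ∃ W : S'.Opens, IsCompact (W : Set S') ∧ π.base '' (W : Set S') = (V : Set S))
    {Y P : Scheme.{u}} (g : Y ⟶ S) (p₁ : P ⟶ Y) (p₂ : P ⟶ S') (h : IsPullback p₁ p₂ g π) :
    EffectiveEpi p₁ := by
  have hqc : QuasiCompactCover (PreZeroHypercover.singleton.{0} π) := ⟨fun {U} hU => by
    obtain ⟨W, hW, himg⟩ := hcov U hU
    exact IsCompactOpenCovered.iff_of_unique.mpr ⟨W, hW, himg⟩⟩
  have hmem : Presieve.singleton π ∈ Scheme.fpqcPrecoverage S := by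
    refine ⟨?_, ?_⟩
    · rw [← PreZeroHypercover.presieve₀_singleton, Scheme.presieve₀_mem_qcPrecoverage_iff]
      exact hqc
    · rw [Scheme.singleton_mem_precoverage_iff]
      exact ⟨π.surjective, inferInstance⟩
  have hp : Presieve.singleton p₁ ∈ Scheme.fpqcPrecoverage Y := by
    rw [← Presieve.ofArrows_pUnit.{0}] at hmem ⊢
    exact Precoverage.mem_coverings_of_isPullback _ hmem g _ (fun _ => p₂) fun _ => h
  rw [← Sieve.effectiveEpimorphic_singleton, Presieve.EffectiveEpimorphic.iff_forall_isSheafFor_yoneda]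
  intro Z
  exact (GrothendieckTopology.Subcanonical.isSheaf_of_isRepresentable _).isSheafFor _
    (Precoverage.generate_mem_toGrothendieck hp)

variable {H G : Over S} [GrpObj H] [GrpObj G] (π : S' ⟶ S) (u' : Red.bc π H ⟶ Red.bc π G)

/-- The value of a homomorphism over `S'` at a point over `S` together with a lift of its base point. -/
noncomputable def ev {Y : Over S} (a : Y.left ⟶ S') (ha : a ≫ π = Y.hom) (h : Y ⟶ H) : Y ⟶ G :=
  (Over.isoMk (Iso.refl _) (by
      change 𝟙 _ ≫ Y.hom = a ≫ π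
      rw [Category.id_comp, ha]) : (Over.map π).obj (Over.mk a) ≅ Y).inv ≫
    (bcPointMulEquiv π G (Over.mk a)).symm (bcPoint π H (Over.mk a)
      ((Over.isoMk (Iso.refl _) (by
        change 𝟙 _ ≫ Y.hom = a ≫ π
        rw [Category.id_comp, ha]) : (Over.map π).obj (Over.mk a) ≅ Y).hom ≫ h) ≫ u')

theorem ev_congr {Y : Over S} {a a' : Y.left ⟶ S'} (e : a = a') (ha : a ≫ π = Y.hom) (ha' : a' ≫ π = Y.hom)
    (h : Y ⟶ H) : ev π u' a ha h = ev π u' a' ha' h := by
  subst e
  rfl

theorem comp_ev {Y Y' : Over S} (j : Y' ⟶ Y) (a : Y.left ⟶ S') (ha : a ≫ π = Y.hom) (h : Y ⟶ H) :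
    j ≫ ev π u' a ha h = ev π u' (j.left ≫ a) (by rw [Category.assoc, ha, Over.w j]) (j ≫ h) := by
  let k : (Over.map π).obj (Over.mk a) ≅ Y := Over.isoMk (Iso.refl _) (by
    change 𝟙 _ ≫ Y.hom = a ≫ π
    rw [Category.id_comp, ha])
  let k' : (Over.map π).obj (Over.mk (j.left ≫ a)) ≅ Y' := Over.isoMk (Iso.refl _) (by
    change 𝟙 _ ≫ Y'.hom = (j.left ≫ a) ≫ π
    rw [Category.id_comp, Category.assoc, ha, Over.w j])
  let j' : Over.mk (j.left ≫ a) ⟶ Over.mk a := Over.homMk j.left rfl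
  have hjk : k'.hom ≫ j = (Over.map π).map j' ≫ k.hom := Over.OverMorphism.ext (by
    change 𝟙 _ ≫ j.left = j.left ≫ 𝟙 _
    rw [Category.id_comp, Category.comp_id])
  have hnat : ∀ z : Over.mk a ⟶ Red.bc π G, (Over.map π).map j' ≫ (bcPointMulEquiv π G (Over.mk a)).symm z =
      (bcPointMulEquiv π G (Over.mk (j.left ≫ a))).symm (j' ≫ z) := fun z => by
    rw [MulEquiv.eq_symm_apply]
    exact (bcPoint_comp π j' _).trans (congrArg (j' ≫ ·) ((bcPointMulEquiv π G (Over.mk a)).apply_symm_apply z))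
  change j ≫ k.inv ≫ _ = k'.inv ≫ (bcPointMulEquiv π G _).symm (bcPoint π H _ (k'.hom ≫ j ≫ h) ≫ u')
  have e1 : bcPoint π H _ (k'.hom ≫ j ≫ h) = j' ≫ bcPoint π H _ (k.hom ≫ h) := by
    rw [← Category.assoc, hjk, Category.assoc, bcPoint_comp]
  rw [e1, Category.assoc j', ← hnat, ← Category.assoc, ← Category.assoc k'.inv]
  congr 1

theorem ev_mul [IsMonHom u'] {Y : Over S} (a : Y.left ⟶ S') (ha : a ≫ π = Y.hom) (g h : Y ⟶ H) :
    ev π u' a ha (g * h) = ev π u' a ha g * ev π u' a ha h := by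
  simp only [ev]
  conv_rhs => rw [← MonObj.comp_mul]
  refine congrArg (_ ≫ ·) ?_
  rw [← map_mul, MonObj.comp_mul]
  refine congrArg _ ?_
  exact (congrArg (· ≫ u') (map_mul (bcPointMulEquiv π H (Over.mk a)) _ _)).trans (MonObj.mul_comp _ _ u')

theorem eq_ev_of_map_eq (u : H ⟶ G) (hu : (Over.pullback π).map u = u') {Y : Over S} (a : Y.left ⟶ S')
    (ha : a ≫ π = Y.hom) (h : Y ⟶ H) : h ≫ u = ev π u' a ha h := by
  simp only [ev]
  rw [Iso.eq_inv_comp, MulEquiv.eq_symm_apply]
  refine (congrArg _ (Category.assoc _ h u).symm).trans ?_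
  exact (bcPoint_comp_right π _ u).trans (congrArg (_ ≫ ·) hu)

/-- A homomorphism over an fpqc covering descends if its values do not depend on the lifts. -/
theorem existsUnique_descend [Flat π] [Surjective π]
    (hcov : ∀ V : S.Opens, IsAffineOpen V → ∃ W : S'.Opens, IsCompact (W : Set S') ∧ π.base '' (W : Set S') = (V : Set S))
    [IsMonHom u']
    (hev : ∀ (Y : Over S) (a b : Y.left ⟶ S') (ha : a ≫ π = Y.hom) (hb : b ≫ π = Y.hom) (h : Y ⟶ H),
      ev π u' a ha h = ev π u' b hb h) :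
    ∃! u : H ⟶ G, IsMonHom u ∧ (Over.pullback π).map u = u' := by
  have hepi : ∀ Y : Over S, EffectiveEpi (pullback.fst Y.hom π) := fun Y =>
    effectiveEpi_of_cover π hcov Y.hom _ _ (IsPullback.of_hasPullback Y.hom π)
  have hext : ∀ {Y : Over S} {x y : Y ⟶ G},
      (∀ (Y' : Over S) (j : Y' ⟶ Y) (a : Y'.left ⟶ S'), a ≫ π = Y'.hom → j ≫ x = j ≫ y) → x = y := by
    intro Y x y hxy
    haveI := hepi Y
    apply Over.OverMorphism.ext
    rw [← cancel_epi (pullback.fst Y.hom π)]
    exact congrArg (fun t => t.left) (hxy (Over.mk (pullback.fst Y.hom π ≫ Y.hom))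
      (Over.homMk (pullback.fst Y.hom π) rfl) (pullback.snd Y.hom π) pullback.condition.symm)
  haveI := hepi H
  set P := pullback H.hom π
  let hP : Over.mk (pullback.fst H.hom π ≫ H.hom) ⟶ H := Over.homMk (pullback.fst H.hom π) rfl
  set e := ev π u' (Y := Over.mk (pullback.fst H.hom π ≫ H.hom)) (pullback.snd H.hom π) pullback.condition.symm hP
  have hdesc : ∀ {Z : Scheme.{u}} (g₁ g₂ : Z ⟶ P), g₁ ≫ pullback.fst H.hom π = g₂ ≫ pullback.fst H.hom π →
      g₁ ≫ e.left = g₂ ≫ e.left := by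
    intro Z g₁ g₂ hg
    let Z' : Over S := Over.mk (g₁ ≫ pullback.fst H.hom π ≫ H.hom)
    let j₁ : Z' ⟶ Over.mk (pullback.fst H.hom π ≫ H.hom) := Over.homMk g₁ rfl
    let j₂ : Z' ⟶ Over.mk (pullback.fst H.hom π ≫ H.hom) := Over.homMk g₂ (by
      change g₂ ≫ pullback.fst H.hom π ≫ H.hom = g₁ ≫ pullback.fst H.hom π ≫ H.hom
      rw [← Category.assoc, ← hg, Category.assoc])
    have hh : j₁ ≫ hP = j₂ ≫ hP := Over.OverMorphism.ext hg
    have h1 : j₁ ≫ e = j₂ ≫ e := by
      rw [comp_ev, comp_ev, hh]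
      exact hev _ _ _ _ _ _
    exact congrArg (fun t => t.left) h1
  set d := EffectiveEpi.desc (pullback.fst H.hom π) e.left hdesc
  have hd : pullback.fst H.hom π ≫ d = e.left := EffectiveEpi.fac _ _ _
  let u : H ⟶ G := Over.homMk d (by
    rw [← cancel_epi (pullback.fst H.hom π), ← Category.assoc, hd]
    exact Over.w e)
  have hu : ∀ (Y : Over S) (a : Y.left ⟶ S') (ha : a ≫ π = Y.hom) (h : Y ⟶ H), h ≫ u = ev π u' a ha h := by
    intro Y a ha h
    let j : Y ⟶ Over.mk (pullback.fst H.hom π ≫ H.hom) :=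
      Over.homMk (pullback.lift h.left a (by rw [Over.w h, ha])) (by
        change _ ≫ pullback.fst H.hom π ≫ H.hom = Y.hom
        rw [pullback.lift_fst_assoc, Over.w h])
    have hj : j ≫ hP = h := Over.OverMorphism.ext (pullback.lift_fst _ _ _)
    have h1 : j ≫ e = ev π u' a ha h := by
      rw [comp_ev, hj]
      exact ev_congr π u' (pullback.lift_snd _ _ _) _ _ _
    rw [← h1, ← hj, Category.assoc]
    refine congrArg (j ≫ ·) (Over.OverMorphism.ext ?_)
    exact hd
  have hmon : IsMonHom u := isMonHom_of_points u fun Y g h => hext fun Y' j a ha => by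
    rw [← Category.assoc, MonObj.comp_mul, MonObj.comp_mul, ← Category.assoc, ← Category.assoc, hu Y' a ha, hu Y' a ha,
      hu Y' a ha, ev_mul]
  refine ⟨u, ⟨hmon, ?_⟩, ?_⟩
  · have key : ∀ (T : Over S') (g : T ⟶ Red.bc π H), g ≫ (Over.pullback π).map u = g ≫ u' := by
      intro T g
      obtain ⟨h, rfl⟩ := (bcPointMulEquiv π H T).surjective g
      change bcPoint π H T h ≫ _ = bcPoint π H T h ≫ u'
      refine (bcPoint_comp_right π h u).symm.trans ?_
      rw [hu ((Over.map π).obj T) T.hom rfl h]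
      simp only [ev]
      obtain ⟨k, hk⟩ : ∃ k : Over.mk T.hom ≅ T, k.hom.left = 𝟙 _ :=
        ⟨Over.isoMk (Iso.refl _) (Category.id_comp _), rfl⟩
      have hk' : (Over.map π).map k.hom = (Over.isoMk (Iso.refl _) (Category.id_comp _) :
          (Over.map π).obj (Over.mk T.hom) ≅ (Over.map π).obj T).hom := Over.OverMorphism.ext hk
      have hk'' : (Over.map π).map k.inv = (Over.isoMk (Iso.refl _) (Category.id_comp _) :
          (Over.map π).obj (Over.mk T.hom) ≅ (Over.map π).obj T).inv := by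
        rw [← cancel_mono (Over.isoMk (Iso.refl _) (Category.id_comp _) :
          (Over.map π).obj (Over.mk T.hom) ≅ (Over.map π).obj T).hom, Iso.inv_hom_id, ← hk', ← Functor.map_comp,
          Iso.inv_hom_id, CategoryTheory.Functor.map_id]
      rw [← hk', ← hk'', bcPoint_comp, bcPoint_comp]
      refine (congrArg (k.inv ≫ ·) ((bcPointMulEquiv π G (Over.mk T.hom)).apply_symm_apply _)).trans ?_
      rw [← Category.assoc, ← Category.assoc, Iso.inv_hom_id, Category.id_comp]
    simpa using key _ (𝟙 _)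
  · rintro v ⟨-, hv⟩
    rw [← Category.id_comp v, ← Category.id_comp u]
    exact hext fun Y' j a ha => by
      rw [← Category.assoc, ← Category.assoc, Category.comp_id, hu Y' a ha j, eq_ev_of_map_eq π u' v hv a ha j]

end GrothLib.DescentHom
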