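import Groth.Agent.Lib.DescentHom.Basic
import Groth.Agent.Lib.DescentHom.GeomConnected
import Groth.Agent.Lib.DiagGrp.SubgroupLocus

/-!
Central homomorphisms out of groups of multiplicative type descend along coverings with connected fibres.
-/

universe u

open CategoryTheory MonoidalCategory CartesianMonoidalCategory MonObj GrpObj AlgebraicGeometry
open CategoryTheory.Limits
open GrothLib.DiagGrp

namespace GrothLib.DescentHom

variable {S S' : Scheme.{u}} {H G : Over S} [GrpObj H] [GrpObj G] (π : S' ⟶ S) (u' : Red.bc π H ⟶ Red.bc π G)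

theorem ev_central (hc : ∀ (X : Over S') (g : X ⟶ Red.bc π G) (h : X ⟶ Red.bc π H), g * (h ≫ u') = (h ≫ u') * g)
    {Y : Over S} (a : Y.left ⟶ S') (ha : a ≫ π = Y.hom) (h : Y ⟶ H) (g : Y ⟶ G) :
    g * ev π u' a ha h = ev π u' a ha h * g := by
  let k : (Over.map π).obj (Over.mk a) ≅ Y := Over.isoMk (Iso.refl _) (by
    change 𝟙 _ ≫ Y.hom = a ≫ π
    rw [Category.id_comp, ha])
  rw [← cancel_epi k.hom, MonObj.comp_mul, MonObj.comp_mul]
  simp only [ev]
  rw [Iso.hom_inv_id_assoc, ← (bcPointMulEquiv π G (Over.mk a)).injective.eq_iff, map_mul, map_mul,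
    MulEquiv.apply_symm_apply]
  exact hc _ _ _

variable {S'' : Scheme.{u}} (q : S'' ⟶ S)

/-- The base change of a homomorphism along a lift of a morphism. -/
noncomputable def pullHom (p : S'' ⟶ S') (hp : p ≫ π = q) : Red.bc q H ⟶ Red.bc q G :=
  bcPoint q G _ (ev π u' (Y := (Over.map q).obj (Red.bc q H)) ((Red.bc q H).hom ≫ p)
    (by rw [Category.assoc, hp]; rfl) ((bcPoint q H _).symm (𝟙 _)))

theorem comp_pullHom (p : S'' ⟶ S') (hp : p ≫ π = q) {T : Over S''} (h : (Over.map q).obj T ⟶ H) :
    bcPoint q H T h ≫ pullHom π u' q p hp =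
      bcPoint q G T (ev π u' (Y := (Over.map q).obj T) (T.hom ≫ p) (by rw [Category.assoc, hp]; rfl) h) := by
  rw [pullHom, ← bcPoint_comp, comp_ev]
  refine congrArg _ ?_
  have e1 : (Over.map q).map (bcPoint q H T h) ≫ (bcPoint q H _).symm (𝟙 _) = h := by
    apply (bcPoint q H T).injective
    rw [bcPoint_comp, Equiv.apply_symm_apply, Category.comp_id]
  rw [e1]
  refine ev_congr π u' ?_ _ _ _
  change (bcPoint q H T h).left ≫ (Red.bc q H).hom ≫ p = T.hom ≫ p
  rw [← Category.assoc, Over.w (bcPoint q H T h)]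

theorem isMonHom_pullHom [IsMonHom u'] (p : S'' ⟶ S') (hp : p ≫ π = q) : IsMonHom (pullHom π u' q p hp) :=
  isMonHom_of_points _ fun T a b => by
    obtain ⟨a, rfl⟩ := (bcPointMulEquiv q H T).surjective a
    obtain ⟨b, rfl⟩ := (bcPointMulEquiv q H T).surjective b
    rw [← map_mul]
    change bcPoint q H T (a * b) ≫ _ = (bcPoint q H T a ≫ _) * (bcPoint q H T b ≫ _)
    rw [comp_pullHom, comp_pullHom, comp_pullHom, ev_mul]
    exact map_mul (bcPointMulEquiv q G T) _ _

theorem pullHom_central (hc : ∀ (X : Over S') (g : X ⟶ Red.bc π G) (h : X ⟶ Red.bc π H), g * (h ≫ u') = (h ≫ u') * g)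
    (p : S'' ⟶ S') (hp : p ≫ π = q) (T : Over S'') (g : T ⟶ Red.bc q G) (h : T ⟶ Red.bc q H) :
    g * (h ≫ pullHom π u' q p hp) = (h ≫ pullHom π u' q p hp) * g := by
  obtain ⟨g, rfl⟩ := (bcPointMulEquiv q G T).surjective g
  obtain ⟨h, rfl⟩ := (bcPointMulEquiv q H T).surjective h
  change bcPointMulEquiv q G T g * (bcPoint q H T h ≫ _) = (bcPoint q H T h ≫ _) * bcPointMulEquiv q G T g
  rw [comp_pullHom]
  change bcPointMulEquiv q G T g * bcPointMulEquiv q G T _ = bcPointMulEquiv q G T _ * bcPointMulEquiv q G T g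
  rw [← map_mul, ← map_mul, ev_central π u' hc]

/-- The value of a central homomorphism does not depend on the lift if the covering has connected fibres. -/
theorem ev_eq_of_central [IsMonHom u'] [IsSeparated G.hom] [LocallyOfFinitePresentation G.hom]
    [LocallyOfFiniteType H.hom] (hH : HasChartsFpqc anyM H) [GeometricallyConnected π]
    (hc : ∀ (X : Over S') (g : X ⟶ Red.bc π G) (h : X ⟶ Red.bc π H), g * (h ≫ u') = (h ≫ u') * g)
    (Y : Over S) (a b : Y.left ⟶ S') (ha : a ≫ π = Y.hom) (hb : b ≫ π = Y.hom) (h : Y ⟶ H) :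
    ev π u' a ha h = ev π u' b hb h := by
  let q : pullback π π ⟶ S := pullback.fst π π ≫ π
  have hq : pullback.snd π π ≫ π = q := pullback.condition.symm
  haveI := isMonHom_pullHom π u' q (pullback.fst π π) rfl
  haveI := isMonHom_pullHom π u' q (pullback.snd π π) hq
  haveI : IsMonHom (pullHom π u' q (pullback.fst π π) rfl * (pullHom π u' q (pullback.snd π π) hq)⁻¹) :=
    isMonHom_mul_inv_central _ _ (pullHom_central π u' q hc _ hq)
  set w := pullHom π u' q (pullback.fst π π) rfl * (pullHom π u' q (pullback.snd π π) hq)⁻¹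
  haveI : IsSeparated (Red.bc q G).hom := inferInstanceAs (IsSeparated (pullback.snd G.hom q))
  haveI : LocallyOfFinitePresentation (Red.bc q G).hom :=
    inferInstanceAs (LocallyOfFinitePresentation (pullback.snd G.hom q))
  haveI : LocallyOfFiniteType (Red.bc q H).hom := inferInstanceAs (LocallyOfFiniteType (pullback.snd H.hom q))
  haveI := isClosedImmersion_one (Red.bc q G)
  haveI := kernel_lfp w (Or.inr inferInstance)
  obtain ⟨U, hUc, hU, hUeq⟩ := exists_clopen_trivial w (hH.baseChange q)
  have hw : ∀ (T : Over (pullback π π)) (h : (Over.map q).obj T ⟶ H), bcPoint q H T h ≫ w = 1 ↔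
      ev π u' (Y := (Over.map q).obj T) (T.hom ≫ pullback.fst π π) (Category.assoc _ _ _) h =
        ev π u' (Y := (Over.map q).obj T) (T.hom ≫ pullback.snd π π) (by rw [Category.assoc, hq]; rfl) h := by
    intro T h
    rw [MonObj.comp_mul, GrpObj.comp_inv, comp_pullHom, comp_pullHom, mul_inv_eq_one,
      (bcPoint q G T).injective.eq_iff]
  have hdiag : ∀ z : S', (pullback.diagonal π).base z ∈ U := by
    intro z
    have h1 : TrivOver w (S'.fromSpecResidueField z ≫ pullback.diagonal π) := by
      intro T τ hτ g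
      obtain ⟨h, rfl⟩ := (bcPoint q H T).surjective g
      refine (hw T h).mpr (ev_congr π u' ?_ _ _ _)
      rw [← hτ]
      simp only [Category.assoc, pullback.diagonal_fst, pullback.diagonal_snd]
    have h2 := (trivOver_field_iff w (L := S'.residueField z) (S'.fromSpecResidueField z ≫ pullback.diagonal π)).mp h1
    rw [Scheme.Hom.comp_apply, Scheme.fromSpecResidueField_apply] at h2
    exact (hU _).mpr ((trivOver_iff_pullback_eq_one w _).mpr h2)
  have htop : ∀ x, x ∈ U := fun x => by
    have hpre := ((pullback.fst π π).isConnected_preimage_singleton ((pullback.fst π π).base x)).isPreconnected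
    refine hpre.subset_isClopen ⟨hUc, U.2⟩ ?_ (show x ∈ (pullback.fst π π).base ⁻¹' {_} from rfl)
    refine ⟨(pullback.diagonal π).base ((pullback.fst π π).base x), ?_, hdiag _⟩
    change (pullback.fst π π).base _ = (pullback.fst π π).base x
    rw [← Scheme.Hom.comp_apply, pullback.diagonal_fst]
    rfl
  have htriv : TrivOver w (𝟙 (pullback π π)) := by
    obtain rfl : U = ⊤ := eq_top_iff.mpr fun x _ => htop x
    exact ((trivOver_iff_pullback_eq_one w _).mp hUeq).precomp (Scheme.topIso _).inv _ (by simp)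
  let T : Over (pullback π π) := Over.mk (pullback.lift a b (ha.trans hb.symm))
  let k : (Over.map q).obj T ≅ Y := Over.isoMk (Iso.refl _) (by
    change 𝟙 _ ≫ Y.hom = pullback.lift a b _ ≫ pullback.fst π π ≫ π
    rw [Category.id_comp, pullback.lift_fst_assoc, ha])
  have h1 := (hw T (k.hom ≫ h)).mp (htriv T T.hom (Category.comp_id _) _)
  have h2 := congrArg (k.inv ≫ ·) h1
  rw [comp_ev, comp_ev, Iso.inv_hom_id_assoc] at h2
  refine (ev_congr π u' ?_ _ _ _).trans (h2.trans (ev_congr π u' ?_ _ _ _))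
  · change a = 𝟙 _ ≫ pullback.lift a b _ ≫ pullback.fst π π
    rw [Category.id_comp, pullback.lift_fst]
  · change 𝟙 _ ≫ pullback.lift a b _ ≫ pullback.snd π π = b
    rw [Category.id_comp, pullback.lift_snd]

end GrothLib.DescentHom
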